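import Groth.Agent.S7674
import Groth.Agent.ComodBasic.OrbitDim

/-!
# Intersections inside an unramified cover of affine space
-/

set_option autoImplicit false
universe u

open scoped TensorProduct

namespace Groth.Agent.SmoothInter

variable {k : Type u} [Field k]

/-- Two maps to a domain which agree on `R` and are congruent modulo a prime agree if `A` is
unramified over `R`. -/
theorem eq_of_congr {R A D E : Type u} [CommRing R] [CommRing A] [Algebra R A]
    [Algebra.EssFiniteType R A] [Algebra.FormallyUnramified R A] [CommRing D] [IsDomain D] [Algebra R D]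
    [CommRing E] [Nontrivial E] (u v : A →ₐ[R] D) (χ : D →+* E) (h : ∀ a, χ (u a) = χ (v a)) (a : A) :
    u a = v a := by
  let t := Algebra.FormallyUnramified.elem R A
  let L : A ⊗[R] A →ₐ[R] D := Algebra.TensorProduct.lift u v fun _ _ => Commute.all _ _
  have hχ : χ.comp L.toRingHom = (χ.comp u.toRingHom).comp (Algebra.TensorProduct.lmul' R).toRingHom := by
    refine RingHom.ext fun x => ?_
    induction x using TensorProduct.induction_on with
    | zero => simp
    | tmul x y => simp [L, h]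
    | add x y hx hy => simp only [map_add, hx, hy]
  have hw : L t ≠ 0 := fun h0 => by
    have h1 : χ (L t) = χ (u (Algebra.TensorProduct.lmul' R t)) := RingHom.congr_fun hχ t
    rw [h0, Algebra.FormallyUnramified.lmul_elem, map_zero, map_one, map_one] at h1
    exact zero_ne_one h1
  have h2 : L ((1 ⊗ₜ a - a ⊗ₜ 1) * t) = 0 := by
    rw [Algebra.FormallyUnramified.one_tmul_sub_tmul_one_mul_elem, map_zero]
  rw [map_mul, mul_eq_zero, or_iff_left hw] at h2
  simp [L, sub_eq_zero] at h2
  exact h2.symm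

set_option maxHeartbeats 1000000 in
theorem core {A : Type u} [CommRing A] [Algebra k A] [Algebra.FiniteType k A] {m : ℕ}
    (φ : MvPolynomial (Fin m) k →ₐ[k] A) (hφ : φ.toRingHom.FormallyUnramified)
    {T : Type u} [CommRing T] [Algebra k T] [Algebra.FiniteType k T] (d : ℕ)
    (heq : ∀ P ∈ minimalPrimes T, ringKrullDim (T ⧸ P) = (d : WithBot ℕ∞))
    (p q Q : Ideal A) [Q.IsPrime] (hQ : Q ∈ (p ⊔ q).minimalPrimes)
    (inl inr : A →ₐ[k] T) (hl0 : ∀ a ∈ p, inl a = 0) (hr0 : ∀ a ∈ q, inr a = 0)
    (hg : ∀ t : T, t ∈ AddSubmonoid.closure {x : T | ∃ a b, x = inl a * inr b})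
    (π : T →ₐ[k] A ⧸ Q) (hπl : ∀ a, π (inl a) = Ideal.Quotient.mk Q a)
    (hπr : ∀ a, π (inr a) = Ideal.Quotient.mk Q a) :
    (d : WithBot ℕ∞) ≤ ringKrullDim (A ⧸ Q) + (m : WithBot ℕ∞) := by
  classical
  haveI : IsNoetherianRing T := Algebra.FiniteType.isNoetherianRing k T
  have hπs : Function.Surjective π := fun b => by
    obtain ⟨a, rfl⟩ := Ideal.Quotient.mk_surjective b
    exact ⟨inl a, hπl a⟩
  let Q' := RingHom.ker π.toRingHom
  haveI : Q'.IsPrime := RingHom.ker_isPrime _
  let δ : Fin m → T := fun i => inl (φ (MvPolynomial.X i)) - inr (φ (MvPolynomial.X i))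
  have hδQ : Ideal.span (Set.range δ) ≤ Q' := Ideal.span_le.2 (by
    rintro _ ⟨i, rfl⟩
    show π (δ i) = 0
    simp only [δ, map_sub, hπl, hπr, sub_self])
  have hmin : Q' ∈ (Ideal.span (Set.range δ)).minimalPrimes := by
    refine ⟨⟨inferInstance, hδQ⟩, fun P hP hPQ t ht => ?_⟩
    haveI := hP.1
    let mkP : T →ₐ[k] T ⧸ P := Ideal.Quotient.mkₐ k P
    have hag : (mkP.comp inl).comp φ = (mkP.comp inr).comp φ := MvPolynomial.algHom_ext fun i => by
      show Ideal.Quotient.mk P (inl _) = Ideal.Quotient.mk P (inr _)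
      rw [Ideal.Quotient.eq]
      exact hP.2 (Ideal.subset_span ⟨i, rfl⟩)
    have hdiag : ∀ a : A, inl a - inr a ∈ P := fun a => by
      rw [← Ideal.Quotient.eq]
      let := φ.toRingHom.toAlgebra
      let : Algebra (MvPolynomial (Fin m) k) (T ⧸ P) :=
        (((Ideal.Quotient.mk P).comp inl.toRingHom).comp φ.toRingHom).toAlgebra
      haveI : Algebra.FormallyUnramified (MvPolynomial (Fin m) k) A := hφ
      haveI : IsScalarTower k (MvPolynomial (Fin m) k) A := IsScalarTower.of_algebraMap_eq fun x => (φ.commutes x).symm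
      haveI : Algebra.FiniteType (MvPolynomial (Fin m) k) A := .of_restrictScalars_finiteType k _ _
      let u : A →ₐ[MvPolynomial (Fin m) k] T ⧸ P := ⟨(mkP.comp inl).toRingHom, fun x => rfl⟩
      let v : A →ₐ[MvPolynomial (Fin m) k] T ⧸ P :=
        ⟨(mkP.comp inr).toRingHom, fun x => (DFunLike.congr_fun hag x).symm⟩
      exact eq_of_congr u v (Ideal.Quotient.lift P π.toRingHom fun x hx => hPQ hx)
        (fun b => ((Ideal.Quotient.lift_mk _ _ _).trans (hπl b)).trans
          ((Ideal.Quotient.lift_mk _ _ _).trans (hπr b)).symm) a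
    have hle : Q ≤ P.comap inl.toRingHom := by
      refine hQ.2 ⟨Ideal.comap_isPrime _ _, sup_le ?_ ?_⟩ ?_
      · intro a ha
        show inl a ∈ P
        rw [hl0 a ha]
        exact zero_mem _
      · intro a ha
        show inl a ∈ P
        have h := hdiag a
        rwa [hr0 a ha, sub_zero] at h
      · intro a ha
        have h : π (inl a) = 0 := hPQ (show inl a ∈ P from ha)
        rwa [hπl, Ideal.Quotient.eq_zero_iff_mem] at h
    have hgen : ∀ t : T, ∃ a, t - inl a ∈ P := fun t => by
      induction hg t using AddSubmonoid.closure_induction with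
      | mem x hx =>
        obtain ⟨a, b, rfl⟩ := hx
        refine ⟨a * b, ?_⟩
        have h := P.mul_mem_left (-(inl a)) (hdiag b)
        convert h using 1
        rw [map_mul]
        ring
      | zero => exact ⟨0, by simp⟩
      | add x y _ _ hx hy =>
        obtain ⟨a, ha⟩ := hx
        obtain ⟨b, hb⟩ := hy
        exact ⟨a + b, by rw [map_add, add_sub_add_comm]; exact add_mem ha hb⟩
    obtain ⟨a, ha⟩ := hgen t
    have haQ : a ∈ Q := by
      have h : π (t - inl a) = 0 := hPQ ha
      rw [map_sub, show π t = 0 from ht, zero_sub, neg_eq_zero, hπl, Ideal.Quotient.eq_zero_iff_mem] at h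
      exact h
    have h2 := add_mem ha (show inl a ∈ P from hle haQ)
    rwa [sub_add_cancel] at h2
  obtain ⟨h, e, hh, he, hhe⟩ := Groth.Agent.S9154.height_add_dim k T d heq Q'
  have hhn : h ≤ m := by
    have := (Ideal.height_le_card_of_mem_minimalPrimes_span (Set.finite_range δ) hmin).trans
      (Nat.cast_le.mpr (show (Set.range δ).ncard ≤ m by
        rw [← Set.image_univ]
        exact (Set.ncard_image_le Set.finite_univ).trans (by simp)))
    rw [hh] at this
    exact_mod_cast this
  have hd : ringKrullDim (A ⧸ Q) = e := by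
    rw [← he]
    exact (ringKrullDim_eq_of_ringEquiv (R := T ⧸ Q') (S := A ⧸ Q)
      (RingHom.quotientKerEquivOfSurjective (f := π.toRingHom) hπs)).symm
  rw [hd, ← Nat.cast_add]
  exact_mod_cast (show d ≤ e + m by omega)

set_option maxHeartbeats 1000000 in
/-- The dimension theorem for primes in an algebra unramified over a polynomial ring. -/
theorem dim_le_dim_add {A : Type u} [CommRing A] [Algebra k A] [Algebra.FiniteType k A] {m : ℕ}
    (φ : MvPolynomial (Fin m) k →ₐ[k] A) (hφ : φ.toRingHom.FormallyUnramified)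
    (p q Q : Ideal A) [p.IsPrime] [q.IsPrime] [Q.IsPrime] (hQ : Q ∈ (p ⊔ q).minimalPrimes)
    (r s : ℕ) (hp : ringKrullDim (A ⧸ p) = r) (hq : ringKrullDim (A ⧸ q) = s) :
    ((r + s : ℕ) : WithBot ℕ∞) ≤ ringKrullDim (A ⧸ Q) + (m : WithBot ℕ∞) := by
  have hpQ : p ≤ Q := le_sup_left.trans hQ.1.2
  have hqQ : q ≤ Q := le_sup_right.trans hQ.1.2
  let inl : A →ₐ[k] ((A ⧸ p) ⊗[k] (A ⧸ q)) :=
    Algebra.TensorProduct.includeLeft.comp (Ideal.Quotient.mkₐ k p)
  let inr : A →ₐ[k] ((A ⧸ p) ⊗[k] (A ⧸ q)) :=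
    Algebra.TensorProduct.includeRight.comp (Ideal.Quotient.mkₐ k q)
  haveI : Algebra.FiniteType k ((A ⧸ p) ⊗[k] (A ⧸ q)) :=
    Algebra.FiniteType.trans (inferInstance : Algebra.FiniteType k (A ⧸ p)) inferInstance
  refine core φ hφ (r + s) (fun P hP => by rw [S7674.equidim (k := k) (A ⧸ p) (A ⧸ q) P hP, hp, hq, Nat.cast_add]) p q Q hQ inl inr
    (fun a ha => by simp [inl, Ideal.Quotient.eq_zero_iff_mem.2 ha])
    (fun a ha => by simp [inr, Ideal.Quotient.eq_zero_iff_mem.2 ha]) ?_
    (Algebra.TensorProduct.lift (Ideal.Quotient.factorₐ k hpQ) (Ideal.Quotient.factorₐ k hqQ) fun _ _ => Commute.all _ _)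
    (fun a => by simp [inl]) (fun a => by simp [inr])
  intro t
  induction t using TensorProduct.induction_on with
  | zero => exact zero_mem _
  | tmul a b =>
    obtain ⟨a, rfl⟩ := Ideal.Quotient.mk_surjective a
    obtain ⟨b, rfl⟩ := Ideal.Quotient.mk_surjective b
    refine AddSubmonoid.subset_closure ⟨a, b, ?_⟩
    simp [inl, inr, Algebra.TensorProduct.tmul_mul_tmul]
  | add x y hx hy => exact add_mem hx hy

end Groth.Agent.SmoothInter
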